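import Cfsg.Agent.H993.OC.Field
import Cfsg.Agent.H898.OC.Hecke_mg
import Cfsg.Agent.H898.OC.Cus
import Cfsg.Agent.H476.OC.Psu3
import Cfsg.Agent.H623.OC.OddTool
import Cfsg.Agent.H985.OC.Defs
import Cfsg.Agent.H921.RatB.Glue
import Cfsg.Agent.H846.RatB.FullTab
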